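import Groth.Agent.QCohGen.Gen
import Groth.Agent.DCohLib.QCohAbelian
import Groth.Agent.DCohLib.Adjoint
import Groth.Agent.S9497
import Groth.Agent.DCohLib.QCohHD
import Mathlib.CategoryTheory.Generator.Basic
import Mathlib.CategoryTheory.ObjectProperty.ColimitsOfShape
import Mathlib.CategoryTheory.Abelian.GrothendieckCategory.Basic
import Mathlib.CategoryTheory.Limits.FullSubcategory

/-!
# Quasi-coherent modules form a Grothendieck abelian category
-/

set_option autoImplicit false
set_option backward.isDefEq.respectTransparency false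
set_option linter.style.haveILetI false

universe u

open CategoryTheory CategoryTheory.Limits AlgebraicGeometry TopologicalSpace Opposite

noncomputable section

namespace Groth.Agent.QCohGen

variable (X : Scheme.{u})

theorem isQCoh_colimit {J : Type u} [SmallCategory J] (K : J ⥤ X.Modules)
    (h : ∀ j, Coh.IsQCoh (K.obj j)) : Coh.IsQCoh (colimit K) := by
  refine Groth.Agent.DCohLib.isQCoh_of_local fun x => ?_
  obtain ⟨_, ⟨W : X.Opens, (hW : IsAffineOpen W), rfl⟩, hx, -⟩ :=
    X.isBasis_affineOpens.exists_subset_of_mem_open (Set.mem_univ x) isOpen_univ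
  refine ⟨W, hx, ?_⟩
  let R := Scheme.Modules.restrictFunctor hW.fromSpec
  haveI : PreservesColimitsOfSize.{u, u} R :=
    (Scheme.Modules.restrictAdjunction hW.fromSpec).leftAdjoint_preservesColimits
  have h1 : Coh.IsQCoh (R.obj (colimit K)) :=
    Groth.Agent.DCohLib.isQCoh_of_iso' (preservesColimitIso R K).symm
      (Groth.Agent.S9497.result Γ(X, W) (K ⋙ R) fun j => by
        haveI := h j
        show Coh.IsQCoh (R.obj (K.obj j))
        infer_instance)
  haveI := h1
  exact Groth.Agent.DCohLib.isQCoh_of_iso'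
    (((Scheme.Modules.restrictFunctorComp hW.isoSpec.hom hW.fromSpec).symm ≪≫
      Scheme.Modules.restrictFunctorCongr hW.isoSpec_hom_fromSpec).app (colimit K))
    (inferInstanceAs (Coh.IsQCoh ((Scheme.Modules.restrictFunctor hW.isoSpec.hom).obj (R.obj (colimit K)))))

instance isClosedUnderColimits_isQCoh (J : Type u) [SmallCategory J] :
    (QCohCat.isQCoh X).IsClosedUnderColimitsOfShape J where
  colimitsOfShape_le := by
    rintro M ⟨p⟩
    exact Groth.Agent.DCohLib.isQCoh_of_iso'
      (IsColimit.coconePointUniqueUpToIso (colimit.isColimit p.diag) p.isColimit)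
      (isQCoh_colimit X p.diag p.prop_diag_obj)

instance hasColimits_qcoh : HasColimitsOfSize.{u, u} (QCohCat.QCoh X) :=
  ⟨fun _ _ => inferInstance⟩

instance preservesColimitsOfShape_ι (J : Type u) [SmallCategory J] :
    PreservesColimitsOfShape J (QCohCat.isQCoh X).ι := inferInstance

instance preservesColimits_ι : PreservesColimitsOfSize.{u, u} (QCohCat.isQCoh X).ι :=
  ⟨fun {J} _ => preservesColimitsOfShape_ι X J⟩

instance isClosedUnderFiniteLimits_aux (J : Type) [SmallCategory J] [FinCategory J] :
    PreservesLimitsOfShape J (QCohCat.isQCoh X).ι :=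
  (Functor.preservesFiniteLimits_of_preservesHomology (QCohCat.isQCoh X).ι).preservesFiniteLimits J

instance ab5_qcoh : AB5OfSize.{u, u} (QCohCat.QCoh X) where
  ofShape J _ _ := by
    haveI : HasExactColimitsOfShape J X.Modules :=
      AB5OfSize.ofShape (C := X.Modules) J
    haveI : PreservesFiniteLimits (QCohCat.isQCoh X).ι := ⟨fun J _ _ => isClosedUnderFiniteLimits_aux X J⟩
    exact HasExactColimitsOfShape.domain_of_functor J (QCohCat.isQCoh X).ι

/-- Indices for the separating family. -/
abbrev Idx : Type u :=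
  Σ W₀ : X.affineOpens, ∀ W : X.affineOpens, T X W₀ W → T X W₀ W → Prop

/-- An index is realized by a quasi-coherent module with a section. -/
def Realized (i : Idx X) : Prop :=
  ∃ (F : QCohCat.QCoh X) (s : Γ(F.obj, i.1.1)),
    haveI : Coh.IsQCoh F.obj := F.property
    ∀ (W : X.affineOpens) (a b : T X i.1 W), i.2 W a b ↔ ev s a = ev s b

/-- The realizing module. -/
def realF (i : {i : Idx X // Realized X i}) : QCohCat.QCoh X := i.2.choose

instance (i : {i : Idx X // Realized X i}) : Coh.IsQCoh (realF X i).obj := (realF X i).property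

/-- The realizing section. -/
def realS (i : {i : Idx X // Realized X i}) : Γ((realF X i).obj, i.1.1.1) := i.2.choose_spec.choose

lemma realS_spec (i : {i : Idx X // Realized X i}) (W : X.affineOpens) (a b : T X i.1.1 W) :
    i.1.2 W a b ↔ ev (realS X i) a = ev (realS X i) b :=
  i.2.choose_spec.choose_spec W a b

/-- The members of the separating family. -/
def genObj (i : {i : Idx X // Realized X i}) : QCohCat.QCoh X :=
  ⟨sub (realS X i), sub_isQCoh _⟩

theorem exists_gen_map (F : QCohCat.QCoh X) (W₀ : X.affineOpens) (s : Γ(F.obj, W₀.1)) :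
    ∃ (i : {i : Idx X // Realized X i}) (t : Γ((genObj X i).obj, i.1.1.1)) (φ : genObj X i ⟶ F)
      (h : i.1.1 = W₀), (φ.hom.app i.1.1.1 t) = h.symm ▸ s := by
  haveI : Coh.IsQCoh F.obj := F.property
  let i : {i : Idx X // Realized X i} :=
    ⟨⟨W₀, fun W a b => ev s a = ev s b⟩, F, s, fun W a b => Iff.rfl⟩
  have h : ∀ (W : X.affineOpens) (a b : T X W₀ W),
      ev (realS X i) a = ev (realS X i) b → ev s a = ev s b :=
    fun W a b hab => (realS_spec X i W a b).2 hab
  exact ⟨i, gen (realS X i), ⟨homSub (realS X i) s h⟩, rfl, homSub_gen (realS X i) s h⟩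

theorem isSeparating_genObj : (ObjectProperty.ofObj (genObj X)).IsSeparating := by
  intro F F' g g' hgg'
  apply ObjectProperty.hom_ext
  apply (Scheme.Modules.toPresheaf X).map_injective
  refine TopCat.Sheaf.hom_ext F.obj.presheaf ⟨F'.obj.presheaf, F'.obj.isSheaf⟩
    (B := fun W : X.affineOpens => W.1) isBasis_range fun W => ?_
  ext s
  obtain ⟨i, t, φ, h, ht⟩ := exists_gen_map X F W s
  subst h
  have := congrArg (fun ψ : genObj X i ⟶ F' => ψ.hom.app i.1.1.1 t)
    (hgg' (genObj X i) (ObjectProperty.ofObj_apply _ i) φ)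
  change g.hom.app i.1.1.1 (φ.hom.app i.1.1.1 t) = g'.hom.app i.1.1.1 (φ.hom.app i.1.1.1 t) at this
  rw [ht] at this
  exact this

instance small_genObj : ObjectProperty.Small.{u} (ObjectProperty.ofObj (genObj X)) := inferInstance

instance hasSeparator_qcoh : HasSeparator (QCohCat.QCoh X) :=
  ⟨∐ genObj X, (isSeparating_genObj X).isSeparator_coproduct⟩

instance isGrothendieckAbelian_qcoh : IsGrothendieckAbelian.{u} (QCohCat.QCoh X) where

end Groth.Agent.QCohGen
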