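import Groth.Agent.QCohGen.Sub
import Mathlib.Topology.Sheaves.SheafCondition.Sites

/-!
# A small separating family of quasi-coherent modules

The submodule generated by a section only depends, up to a morphism sending the section to the
section, on the relation "having the same value" between formal terms, so a small family suffices.
-/

set_option autoImplicit false

universe u

open CategoryTheory Limits Opposite TopologicalSpace AlgebraicGeometry
open Groth.Agent.CohBase Groth.Agent.QCohLib

namespace Groth.Agent.QCohGen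

noncomputable section

variable {X : Scheme.{u}} {F G : X.Modules} [hF : Coh.IsQCoh F] [hG : Coh.IsQCoh G]
  {W₀ : X.affineOpens} (s : Γ(F, W₀.1)) (s' : Γ(G, W₀.1))

/-- The term of a value. -/
def term {W : X.affineOpens} (t : Γ(sub s, W.1)) : T X W₀ W :=
  ((mem_subObj_iff s W t.1).1 t.2).choose

lemma ev_term {W : X.affineOpens} (t : Γ(sub s, W.1)) : ev s (term s t) = t.1 :=
  ((mem_subObj_iff s W t.1).1 t.2).choose_spec

variable (h : ∀ (W : X.affineOpens) (a b : T X W₀ W), ev s a = ev s b → ev s' a = ev s' b)

include h in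
lemma val_spec {W : X.affineOpens} (t : Γ(sub s, W.1)) (a : T X W₀ W) (ha : ev s a = t.1) :
    ev s' (term s t) = ev s' a :=
  h W _ _ ((ev_term s t).trans ha.symm)

include h in
lemma val_smul {W : X.affineOpens} (r : Γ(X, W.1)) (t : Γ(sub s, W.1)) :
    ev s' (term s (r • t)) = r • ev s' (term s t) := by
  rw [val_spec s s' h (r • t) (.smul r (term s t)) (by rw [ev, ev_term]; rfl), ev]

/-- The comparison on an affine open. -/
def affHom (W : X.affineOpens) : Γ(sub s, W.1) →+ Γ(G, W.1) :=
  AddMonoidHom.mk' (fun t => ev s' (term s t)) fun t t' => by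
    rw [val_spec s s' h (t + t') (.add (term s t) (term s t')) (by rw [ev, ev_term, ev_term]; rfl), ev]

lemma affHom_res {V W : X.affineOpens} (hVW : V.1 ≤ W.1) (t : Γ(sub s, W.1)) :
    affHom s s' h V ((sub s).presheaf.map (homOfLE hVW).op t) =
      G.presheaf.map (homOfLE hVW).op (affHom s s' h W t) := by
  show ev s' (term s _) = G.presheaf.map (homOfLE hVW).op (ev s' (term s t))
  rw [val_spec s s' h _ (.res hVW (term s t)) (by rw [ev, ev_term]; rfl), ev]

lemma isBasis_range : Opens.IsBasis (Set.range fun W : X.affineOpens => W.1) := by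
  rw [Subtype.range_coe_subtype]
  exact X.isBasis_affineOpens

lemma res_smul' {M : X.Modules} {U V : X.Opens} (hUV : U ≤ V) (r : Γ(X, V)) (t : Γ(M, V)) :
    M.presheaf.map (homOfLE hUV).op (r • t) =
      X.presheaf.map (homOfLE hUV).op r • M.presheaf.map (homOfLE hUV).op t :=
  Scheme.Modules.map_smul M _ _ _

/-- The natural transformation on the affine opens. -/
def affNat : (inducedFunctor fun W : X.affineOpens => W.1).op ⋙ (sub s).presheaf ⟶
    (inducedFunctor fun W : X.affineOpens => W.1).op ⋙ G.presheaf where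
  app W := AddCommGrpCat.ofHom (affHom s s' h W.unop)
  naturality {W V} i := by
    ext t
    exact affHom_res s s' h i.unop.hom.le t

/-- The sheaf morphism extending it. -/
def homAb : (sub s).presheaf ⟶ G.presheaf :=
  TopCat.Sheaf.restrictHomEquivHom (sub s).presheaf ⟨G.presheaf, G.isSheaf⟩ isBasis_range
    (affNat s s' h)

lemma homAb_app (W : X.affineOpens) :
    (homAb s s' h).app (op W.1) = AddCommGrpCat.ofHom (affHom s s' h W) :=
  TopCat.Sheaf.extend_hom_app (sub s).presheaf ⟨G.presheaf, G.isSheaf⟩ isBasis_range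
    (affNat s s' h) W

/-- The morphism of modules. -/
def homSub : sub s ⟶ G :=
  ⟨PresheafOfModules.homMk (homAb s s' h) fun U r t => by
    let Gs : TopCat.Sheaf Ab X := ⟨G.presheaf, G.isSheaf⟩
    change Γ(sub s, U.unop) at t
    change Γ(X, U.unop) at r
    show (homAb s s' h).app (op U.unop) (r • t) = r • (homAb s s' h).app (op U.unop) t
    refine Gs.eq_of_locally_eq' (fun W : {W : X.affineOpens // W.1 ≤ U.unop} => W.1.1) U.unop
      (fun W => homOfLE W.2) (fun x hx => ?_) _ _ fun W => ?_
    · obtain ⟨_, ⟨V, hV, rfl⟩, hxV, hVU⟩ :=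
        X.isBasis_affineOpens.exists_subset_of_mem_open hx U.unop.isOpen
      exact Opens.mem_iSup.2 ⟨⟨⟨V, hV⟩, hVU⟩, hxV⟩
    · change G.presheaf.map (homOfLE W.2).op ((homAb s s' h).app (op U.unop) (r • t)) =
        G.presheaf.map (homOfLE W.2).op (r • (homAb s s' h).app (op U.unop) t)
      rw [res_smul', ← NatTrans.naturality_apply (homAb s s' h) (homOfLE W.2).op,
        ← NatTrans.naturality_apply (homAb s s' h) (homOfLE W.2).op, res_smul', homAb_app]
      exact val_smul s s' h _ _⟩

lemma homSub_app (W : X.affineOpens) (t : Γ(sub s, W.1)) :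
    (homSub s s' h).app W.1 t = ev s' (term s t) :=
  ConcreteCategory.congr_hom (homAb_app s s' h W) t

/-- The tautological section. -/
def gen : Γ(sub s, W₀.1) :=
  ⟨s, (mem_subObj_iff s W₀ s).2 ⟨.base, by rw [ev]⟩⟩

lemma homSub_gen : (homSub s s' h).app W₀.1 (gen s) = s' := by
  rw [homSub_app, val_spec s s' h (gen s) .base (by rw [ev]; rfl), ev]

end

end Groth.Agent.QCohGen
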