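import Groth.Agent.QCohLib.Criterion
import Mathlib.Algebra.Category.ModuleCat.Presheaf.Submodule
import Mathlib.Topology.Sheaves.SheafCondition.UniqueGluing

/-!
# Small quasi-coherent submodules generated by one section

For a quasi-coherent `F` and a section `s` over an affine open, formal terms built from `s` by the
module operations, restriction, and chosen extensions of sections over basic opens evaluate to a
quasi-coherent submodule of `F` containing `s`.
-/

set_option autoImplicit false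

universe u

open CategoryTheory Limits Opposite TopologicalSpace AlgebraicGeometry
open Groth.Agent.CohBase Groth.Agent.QCohLib

namespace Groth.Agent.QCohGen

variable (X : Scheme.{u})

/-- Formal terms over affine opens generated by a symbol over `W₀`. -/
inductive T (W₀ : X.affineOpens) : X.affineOpens → Type u
  | base : T W₀ W₀
  | zero (W : X.affineOpens) : T W₀ W
  | add {W : X.affineOpens} : T W₀ W → T W₀ W → T W₀ W
  | smul {W : X.affineOpens} : Γ(X, W.1) → T W₀ W → T W₀ W
  | res {V W : X.affineOpens} : (V.1 ≤ W.1) → T W₀ W → T W₀ V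
  | lift {W : X.affineOpens} (f : Γ(X, W.1)) : T W₀ (X.affineBasicOpen f) → T W₀ W

variable {X} {F : X.Modules} [hF : Coh.IsQCoh F] {W₀ : X.affineOpens} (s : Γ(F, W₀.1))

/-- A chosen extension of a power multiple of a section over a basic open. -/
noncomputable def ext' (W : X.affineOpens) (f : Γ(X, W.1)) (t : Γ(F, X.basicOpen f)) : Γ(F, W.1) :=
  ((locAt F W.2).extend f t).choose_spec.choose

lemma ext'_spec (W : X.affineOpens) (f : Γ(X, W.1)) (t : Γ(F, X.basicOpen f)) :
    ∃ n : ℕ, F.presheaf.map (homOfLE (X.basicOpen_le f)).op (ext' W f t) =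
      sc (f ^ n) (X.basicOpen_le f) t :=
  ⟨_, ((locAt F W.2).extend f t).choose_spec.choose_spec⟩

/-- Evaluation of formal terms. -/
noncomputable def ev : ∀ {W : X.affineOpens}, T X W₀ W → Γ(F, W.1)
  | _, .base => s
  | _, .zero _ => 0
  | _, .add a b => ev a + ev b
  | _, .smul r a => r • ev a
  | _, .res h a => F.presheaf.map (homOfLE h).op (ev a)
  | W, .lift f a => ext' W f (ev a)

/-- The values of the terms over an affine open. -/
noncomputable def N (W : X.affineOpens) : Submodule Γ(X, W.1) Γ(F, W.1) where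
  carrier := Set.range (ev s (W := W))
  add_mem' := by
    rintro _ _ ⟨a, rfl⟩ ⟨b, rfl⟩
    exact ⟨.add a b, by rw [ev]⟩
  zero_mem' := ⟨.zero W, by rw [ev]⟩
  smul_mem' := by
    rintro r _ ⟨a, rfl⟩
    exact ⟨.smul r a, by rw [ev]⟩

lemma mem_N_res {V W : X.affineOpens} (h : V.1 ≤ W.1) {t : Γ(F, W.1)} (ht : t ∈ N s W) :
    F.presheaf.map (homOfLE h).op t ∈ N s V := by
  obtain ⟨a, rfl⟩ := ht
  exact ⟨.res h a, by rw [ev]⟩

lemma res_res {U V W : X.Opens} (h₁ : U ≤ V) (h₂ : V ≤ W) (t : Γ(F, W)) :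
    F.presheaf.map (homOfLE h₁).op (F.presheaf.map (homOfLE h₂).op t) =
      F.presheaf.map (homOfLE (h₁.trans h₂)).op t := by
  rw [← ConcreteCategory.comp_apply, ← Functor.map_comp]
  rfl

lemma res_smul {U V : X.Opens} (h : U ≤ V) (r : Γ(X, V)) (t : Γ(F, V)) :
    F.presheaf.map (homOfLE h).op (r • t) =
      X.presheaf.map (homOfLE h).op r • F.presheaf.map (homOfLE h).op t :=
  Scheme.Modules.map_smul F _ _ _

/-- The sections all of whose restrictions to affine opens are values of terms. -/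
noncomputable def subObj (U : X.Opens) : Submodule Γ(X, U) Γ(F, U) where
  carrier := {t | ∀ (W : X.affineOpens) (h : W.1 ≤ U), F.presheaf.map (homOfLE h).op t ∈ N s W}
  add_mem' {a b} ha hb W h := by
    rw [map_add]
    exact add_mem (ha W h) (hb W h)
  zero_mem' W h := by
    rw [map_zero]
    exact zero_mem _
  smul_mem' r t ht W h := by
    rw [res_smul]
    exact Submodule.smul_mem _ _ (ht W h)

lemma mem_subObj_iff (W : X.affineOpens) (t : Γ(F, W.1)) : t ∈ subObj s W.1 ↔ t ∈ N s W := by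
  refine ⟨fun h => ?_, fun h V hV => mem_N_res s hV h⟩
  have := h W le_rfl
  rwa [show (homOfLE (le_refl W.1)).op = 𝟙 (op W.1) from rfl, F.presheaf.map_id] at this

lemma subObj_res {U V : X.Opens} (h : V ≤ U) {t : Γ(F, U)} (ht : t ∈ subObj s U) :
    F.presheaf.map (homOfLE h).op t ∈ subObj s V := fun W hW => by
  rw [res_res]
  exact ht W _

/-- Membership is local. -/
lemma mem_subObj_of_local {U : X.Opens} (t : Γ(F, U))
    (ht : ∀ x ∈ U, ∃ (V : X.Opens) (h : V ≤ U), x ∈ V ∧ F.presheaf.map (homOfLE h).op t ∈ subObj s V) :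
    t ∈ subObj s U := by
  intro W hW
  set tW := F.presheaf.map (homOfLE hW).op t with htW
  let A : Ideal Γ(X, W.1) := (N s W).comap (LinearMap.toSpanSingleton Γ(X, W.1) Γ(F, W.1) tW)
  have hA : ∀ a, a ∈ A ↔ a • tW ∈ N s W := fun a => Iff.rfl
  have hcov : ∀ x ∈ W.1, ∃ f ∈ A.radical, x ∈ X.basicOpen f := by
    intro x hx
    obtain ⟨V, hV, hxV, htV⟩ := ht x (hW hx)
    obtain ⟨f, hfle, hxf⟩ := W.2.exists_basicOpen_le (V := V) ⟨x, hxV⟩ hx
    refine ⟨f, ?_, hxf⟩
    have hD := htV (X.affineBasicOpen f) hfle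
    rw [res_res] at hD
    obtain ⟨a, ha⟩ := hD
    obtain ⟨n, hn⟩ := ext'_spec W f (ev s a)
    set m := ext' W f (ev s a) with hm
    have hmN : m ∈ N s W := ⟨.lift f a, by rw [ev]⟩
    have h0 : F.presheaf.map (homOfLE (X.basicOpen_le f)).op (m - f ^ n • tW) = 0 := by
      rw [map_sub, res_smul, htW, res_res, hn, sc_apply, ha]
      exact sub_self _
    obtain ⟨k, hk⟩ := (locAt F W.2).kill f _ h0
    rw [sc_apply, show (homOfLE (le_refl W.1)).op = 𝟙 (op W.1) from rfl, X.presheaf.map_id] at hk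
    refine ⟨k + n, (hA _).2 ?_⟩
    have hk' : f ^ k • m = f ^ (k + n) • tW := by
      rw [pow_add, ← smul_smul]
      exact sub_eq_zero.1 ((_root_.smul_sub _ _ _).symm.trans hk)
    rw [← hk']
    exact Submodule.smul_mem _ _ hmN
  have hrad : A.radical = ⊤ := by
    have hsp := (W.2.self_le_iSup_basicOpen_iff (s := (A.radical : Set Γ(X, W.1)))).1 ?_
    · rwa [Ideal.span_eq] at hsp
    intro x hx
    obtain ⟨f, hf, hxf⟩ := hcov x hx
    exact Opens.mem_iSup.2 ⟨⟨f, hf⟩, hxf⟩
  have h1 := (hA 1).1 (by rw [Ideal.radical_eq_top.1 hrad]; trivial)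
  rwa [one_smul] at h1

/-- The submodule as a presheaf of modules. -/
noncomputable def subPre : F.val.Submodule where
  obj U := subObj s U.unop
  map {U V} i := fun t ht => by
    have := subObj_res s i.unop.le ht
    exact this

/-- The generated submodule. -/
noncomputable def sub : X.Modules where
  val := (subPre s).toPresheafOfModules
  isSheaf := by
    refine (TopCat.Presheaf.isSheaf_iff_isSheafUniqueGluing
      (X := X.toTopCat) (subPre s).toPresheafOfModules.presheaf).2 ?_
    intro ι U sf hsf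
    let Fs : TopCat.Sheaf Ab X := ⟨F.presheaf, F.isSheaf⟩
    have hcompat : TopCat.Presheaf.IsCompatible F.presheaf U (fun i => (sf i).1) := fun i j =>
      congrArg Subtype.val (hsf i j)
    obtain ⟨t, ht, huniq⟩ := Fs.existsUnique_gluing U (fun i => (sf i).1) hcompat
    have htmem : t ∈ subObj s (iSup U) := by
      refine mem_subObj_of_local s t fun x hx => ?_
      obtain ⟨i, hi⟩ := Opens.mem_iSup.1 hx
      refine ⟨U i, le_iSup U i, hi, ?_⟩
      have h2 := ht i
      exact h2 ▸ (sf i).2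
    refine ⟨⟨t, htmem⟩, fun i => Subtype.ext (ht i), fun t' ht' => Subtype.ext ?_⟩
    exact huniq t'.1 fun i => congrArg Subtype.val (ht' i)

/-- The inclusion. -/
noncomputable def subι : sub s ⟶ F := ⟨(subPre s).ι⟩

theorem subι_app_injective (U : X.Opens) : Function.Injective ((subι s).app U) :=
  fun _ _ h => Subtype.ext h

theorem sub_isQCoh : Coh.IsQCoh (sub s) := by
  refine (isQCoh_iff _).2 fun W hW => ⟨fun f t => ?_, fun f t ht => ?_⟩
  · obtain ⟨a, ha⟩ := (mem_subObj_iff s (X.affineBasicOpen (U := ⟨W, hW⟩) f) t.1).1 t.2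
    obtain ⟨n, hn⟩ := ext'_spec ⟨W, hW⟩ f (ev s a)
    refine ⟨n, ⟨ext' ⟨W, hW⟩ f (ev s a), (mem_subObj_iff s ⟨W, hW⟩ _).2 ⟨.lift f a, by rw [ev]⟩⟩,
      Subtype.ext ?_⟩
    exact hn.trans (by rw [ha]; rfl)
  · obtain ⟨n, hn⟩ := (locAt F hW).kill f t.1 (congrArg Subtype.val ht)
    exact ⟨n, Subtype.ext hn⟩

end Groth.Agent.QCohGen
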